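import Cfsg.Agent.SLMult.CentExt
import Cfsg.Agent.SL2Mult.Main
import Cfsg.Agent.Schur.Pullback
import Cfsg.Agent.FGSB.StemExt
import Cfsg.Agent.Classical.LinearOrder
import Cfsg.Agent.Classical.Transvections

/-!
The Schur multiplier of `PSL_n(q)` outside the exceptional pairs: `SL_n(q)` is the universal cover.
-/

set_option autoImplicit false
set_option linter.style.haveILetI false

namespace CfsgLib.SLMult

open Subgroup
open scoped commutatorElement

universe u

section Generic

variable {Γ Δ Q : Type u} [Group Γ] [Group Δ] [Group Q]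

theorem psnd_ker_le_center (σ : Γ →* Q) (τ : Δ →* Q) (hc : σ.ker ≤ center Γ) :
    (Schur.psnd σ τ).ker ≤ center (Schur.pullback σ τ) := by
  intro z hz
  have h1 : z.1.2 = 1 := hz
  have h2 : z.1.1 ∈ center Γ := hc (by
    rw [MonoidHom.mem_ker, Schur.mem_pullback.1 z.2, h1, map_one])
  exact mem_center_iff.2 fun y => Subtype.ext (Prod.ext (mem_center_iff.1 h2 y.1.1) (by simp [h1]))

/-- Commutators only depend on the images under a map with central kernel. -/
theorem commutator_congr {f : Γ →* Δ} (hc : f.ker ≤ center Γ) {a a' b b' : Γ} (ha : f a = f a')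
    (hb : f b = f b') : ⁅a, b⁆ = ⁅a', b'⁆ := by
  have key : ∀ {x x' : Γ}, f x = f x' → ∀ g, x * g * x⁻¹ = x' * g * x'⁻¹ := fun {x x'} h g => by
    have hz : x'⁻¹ * x ∈ center Γ := hc (by rw [MonoidHom.mem_ker, map_mul, map_inv, h, inv_mul_cancel])
    calc x * g * x⁻¹ = x' * (x'⁻¹ * x * g) * x⁻¹ := by group
      _ = x' * (g * (x'⁻¹ * x)) * x⁻¹ := by rw [mem_center_iff.1 hz g]
      _ = _ := by group
  rw [commutatorElement_def, commutatorElement_def, key ha,
    show a' * b * a'⁻¹ * b⁻¹ = a' * (b * a'⁻¹ * b⁻¹) by group, key hb]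
  group

/-- In a central extension of a perfect group the derived group is a stem extension. -/
theorem derived_stem (f : Γ →* Δ) (hf : Function.Surjective f) (hc : f.ker ≤ center Γ)
    (hperf : commutator Δ = ⊤) :
    Cfsg.IsStemExtension (f.comp (commutator Γ).subtype) := by
  have hsurj : Function.Surjective (f.comp (commutator Γ).subtype) := fun d => by
    obtain ⟨e, he, rfl⟩ := (Schur.map_commutator_of_surjective f hf).ge (hperf ▸ mem_top d)
    exact ⟨⟨e, he⟩, rfl⟩
  refine ⟨hsurj, fun z hz => mem_center_iff.2 fun y =>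
    Subtype.ext (mem_center_iff.1 (hc (show (z : Γ) ∈ f.ker from hz)) y.1), ?_⟩
  have hle : commutator Γ ≤ (commutator (commutator Γ)).map (commutator Γ).subtype := by
    conv_lhs => rw [commutator_def]
    rw [commutator_le]
    intro a _ b _
    obtain ⟨x, hx⟩ := hsurj (f a)
    obtain ⟨y, hy⟩ := hsurj (f b)
    refine ⟨⁅x, y⁆, commutator_mem_commutator (mem_top _) (mem_top _), ?_⟩
    rw [map_commutatorElement]
    exact commutator_congr hc hx hy
  intro z _
  obtain ⟨w, hw, hwz⟩ := hle z.2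
  rwa [← Subtype.ext hwz]

/-- If the pullback to `Δ` of a stem extension splits, its kernel is an image of the kernel below. -/
theorem ker_bound {σ : Γ →* Q} {τ : Δ →* Q} (hσ : Cfsg.IsStemExtension σ) (hτ : Function.Surjective τ)
    (s : Δ →* Schur.pullback σ τ) (hs : ∀ d, Schur.psnd σ τ (s d) = d) :
    ∃ φ : τ.ker →* σ.ker, Function.Surjective φ := by
  let φ : Δ →* Γ := (Schur.pfst σ τ).comp s
  have hστ : ∀ d, σ (φ d) = τ d := fun d => by
    show σ (s d).1.1 = _
    rw [Schur.mem_pullback.1 (s d).2, show (s d).1.2 = d from hs d]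
  have hlift : ∀ g : Γ, ∃ d, σ g = σ (φ d) := fun g => by
    obtain ⟨d, hd⟩ := hτ (σ g)
    exact ⟨d, by rw [hστ, hd]⟩
  have hcomm : commutator Γ ≤ φ.range := by
    rw [commutator_def, commutator_le]
    intro a _ b _
    obtain ⟨x, hx⟩ := hlift a
    obtain ⟨y, hy⟩ := hlift b
    exact ⟨⁅x, y⁆, by rw [map_commutatorElement]; exact (commutator_congr hσ.2.1 hx hy).symm⟩
  have hsurj : ∀ g : Γ, ∃ d, φ d = g := fun g => by
    obtain ⟨d, hd⟩ := hlift g
    obtain ⟨d', hd'⟩ := hcomm (hσ.2.2 (show (φ d)⁻¹ * g ∈ σ.ker by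
      rw [MonoidHom.mem_ker, map_mul, map_inv, hd, inv_mul_cancel]))
    exact ⟨d * d', by rw [map_mul, hd', mul_inv_cancel_left]⟩
  refine ⟨(φ.comp τ.ker.subtype).codRestrict σ.ker fun d => ?_, fun z => ?_⟩
  · show σ (φ d.1) = 1
    rw [hστ]; exact d.2
  · obtain ⟨d, hd⟩ := hsurj z.1
    refine ⟨⟨d, ?_⟩, Subtype.ext hd⟩
    rw [MonoidHom.mem_ker, ← hστ, hd]
    exact z.2

end Generic

variable {F : Type u} [Field F] [Fintype F] {n : ℕ}

theorem hasCyclicSchurMultiplier_psl (hn : 2 ≤ n)
    (h2 : n = 2 → 4 < Fintype.card F ∧ Fintype.card F ≠ 9)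
    (h3 : n = 3 → Fintype.card F ≠ 2 ∧ Fintype.card F ≠ 4) (h4 : n = 4 → Fintype.card F ≠ 2) :
    Cfsg.HasCyclicSchurMultiplier (Matrix.ProjectiveSpecialLinearGroup (Fin n) F)
      (Nat.gcd n (Fintype.card F - 1)) := by
  classical
  haveI : Nonempty (Fin n) := ⟨⟨0, by omega⟩⟩
  haveI : NeZero (Nat.gcd n (Fintype.card F - 1)) := ⟨(Nat.gcd_pos_of_pos_left _ (by omega)).ne'⟩
  have hperf : commutator (Matrix.SpecialLinearGroup (Fin n) F) = ⊤ := by
    refine CfsgLib.Linear.commutator_SL_eq_top ?_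
    rcases eq_or_ne n 2 with hn2 | hn2
    · obtain ⟨c, hc, hc2⟩ := exists_sq (K := F) (by rw [Nat.card_eq_fintype_card]; have := h2 hn2; omega)
      exact Or.inr ⟨c, hc, hc2⟩
    · exact Or.inl (by rw [Fintype.card_fin]; omega)
  let τ := QuotientGroup.mk' (center (Matrix.SpecialLinearGroup (Fin n) F))
  have hτker : τ.ker = center (Matrix.SpecialLinearGroup (Fin n) F) := QuotientGroup.ker_mk' _
  have hτ : Cfsg.IsStemExtension τ :=
    ⟨QuotientGroup.mk'_surjective _, hτker.le, by rw [hperf]; exact le_top⟩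
  have hcard : Nat.card τ.ker = Nat.gcd n (Fintype.card F - 1) := by
    rw [hτker, CfsgLib.Linear.card_center_SL, Fintype.card_fin, Nat.card_eq_fintype_card]
  have hcyc : IsCyclic τ.ker := by
    rw [hτker]
    exact isCyclic_of_surjective
      (Matrix.SpecialLinearGroup.center_equiv_rootsOfUnity' (R := F) (Classical.arbitrary (Fin n))).symm.toMonoidHom
      (MulEquiv.surjective _)
  refine CfsgLib.StemExt.hasCyclicSchurMultiplier τ hτ hcyc hcard fun Γ _ _ σ hσ => ?_
  have hsurjP := Schur.psnd_surjective σ τ hσ.1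
  have hcP := psnd_ker_le_center σ τ hσ.2.1
  obtain ⟨s, hs⟩ : ∃ s : Matrix.SpecialLinearGroup (Fin n) F →* Schur.pullback σ τ,
      ∀ d, Schur.psnd σ τ (s d) = d := by
    rcases eq_or_ne n 2 with hn2 | hn2
    · subst hn2
      have hst := derived_stem _ hsurjP hcP hperf
      have hk := CfsgLib.SL2Mult.ker_eq_bot (F := F) (by have := h2 rfl; omega)
        (by have := h2 rfl; omega) hst
      let e := MulEquiv.ofBijective _ ⟨(MonoidHom.ker_eq_bot_iff _).1 hk, hst.1⟩
      exact ⟨(commutator _).subtype.comp e.symm.toMonoidHom, fun d => e.apply_symm_apply d⟩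
    · let S : Ext F n (Schur.pullback σ τ) :=
        { σ := Schur.psnd σ τ, surj := hsurjP, central := hcP, three := by omega
          fin := inferInstance
          exc3 := fun e => by rw [Nat.card_eq_fintype_card]; exact h3 e
          exc4 := fun e => by rw [Nat.card_eq_fintype_card]; exact h4 e }
      exact S.exists_section
  obtain ⟨φ, hφ⟩ := ker_bound hσ hτ.1 s hs
  exact ⟨isCyclic_of_surjective φ hφ, hcard ▸ Subgroup.card_dvd_of_surjective φ hφ⟩

end CfsgLib.SLMult
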