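import Cfsg.Agent.StPres.RankN
import Mathlib.LinearAlgebra.Matrix.Permutation

set_option autoImplicit false
set_option linter.style.haveILetI false

/-!
Every central extension of `SL_n(K)`, `n ≥ 3`, `K` finite, splits, apart from `(3,2)`, `(3,4)`, `(4,2)`:
commutators of lifts of root elements satisfy the Steinberg relations.
-/

namespace CfsgLib.SLMult

open Matrix
open scoped commutatorElement

universe u

variable {K : Type u} [Field K] {n : ℕ}

local notation "SLn" => Matrix.SpecialLinearGroup (Fin n) K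

/-- The root element, `1` on the diagonal. -/
def e (i j : Fin n) (t : K) : SLn := if h : i ≠ j then SpecialLinearGroup.transvection h t else 1

theorem e_coe {i j : Fin n} (h : i ≠ j) (t : K) : (e i j t : SLn).1 = transvection i j t := by
  rw [e, dif_pos h]; rfl

theorem e_add {i j : Fin n} (h : i ≠ j) (t u : K) : e i j (t + u) = (e i j t * e i j u : SLn) := by
  rw [e, e, e, dif_pos h, dif_pos h, dif_pos h, SpecialLinearGroup.transvection_add]

theorem e_far {i j k l : Fin n} (h1 : i ≠ j) (h2 : k ≠ l) (h3 : i ≠ l) (h4 : j ≠ k) (t u : K) :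
    ⁅e i j t, e k l u⁆ = (1 : SLn) := by
  rw [commutatorElement_def, e, e, dif_pos h1, dif_pos h2]
  exact CfsgLib.StPres.transv_far h1 h2 h3 h4 t u

theorem e_near {i j l : Fin n} (h1 : i ≠ j) (h2 : j ≠ l) (h3 : i ≠ l) (t u : K) :
    ⁅e i j t, e j l u⁆ = (e i l (t * u) : SLn) := by
  rw [commutatorElement_def, e, e, e, dif_pos h1, dif_pos h2, dif_pos h3]
  exact CfsgLib.StPres.transv_near h1 h2 h3 t u

/-- A diagonal element. -/
def dg (d : Fin n → K) (hd : ∏ a, d a = 1) : SLn := ⟨diagonal d, by rw [det_diagonal, hd]⟩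

theorem dg_conj (d : Fin n → K) (hd : ∏ a, d a = 1) {i j : Fin n} (h : i ≠ j) (t : K) :
    dg d hd * e i j t * (dg d hd)⁻¹ = e i j (d i / d j * t) := by
  have hj : d j ≠ 0 := fun e0 => by
    rw [Finset.prod_eq_zero (Finset.mem_univ j) e0] at hd
    exact zero_ne_one hd
  rw [mul_inv_eq_iff_eq_mul]
  apply Subtype.ext
  show diagonal d * (e i j t : SLn).1 = (e i j (d i / d j * t) : SLn).1 * diagonal d
  rw [e_coe h, e_coe h]
  rw [transvection, transvection, mul_add, add_mul, mul_one, one_mul]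
  congr 1
  ext a b
  rw [diagonal_mul, mul_diagonal]
  by_cases hab : i = a ∧ j = b
  · obtain ⟨rfl, rfl⟩ := hab
    rw [single_apply_same, single_apply_same]; field_simp
  · rw [single_apply, single_apply, if_neg hab, if_neg hab, mul_zero, zero_mul]

/-- A diagonal element with three prescribed entries. -/
theorem exists_dg3 {i j m : Fin n} (hij : i ≠ j) (him : i ≠ m) (hjm : j ≠ m) {a b c : K} (h : a * b * c = 1) :
    ∃ d : Fin n → K, ∏ x, d x = 1 ∧ d i = a ∧ d j = b ∧ d m = c ∧ ∀ x, x ≠ i → x ≠ j → x ≠ m → d x = 1 := by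
  classical
  refine ⟨fun x => if x = i then a else if x = j then b else if x = m then c else 1, ?_, by simp, by simp [hij.symm],
    by simp [him.symm, hjm.symm], fun x h1 h2 h3 => by simp [h1, h2, h3]⟩
  rw [Finset.prod_eq_mul_prod_sdiff_singleton_of_mem (Finset.mem_univ i),
    Finset.prod_eq_mul_prod_sdiff_singleton_of_mem (i := j) (by simp [hij.symm]),
    Finset.prod_eq_mul_prod_sdiff_singleton_of_mem (i := m) (by simp [him.symm, hjm.symm]),
    Finset.prod_eq_one (fun x hx => by
      simp only [Finset.mem_sdiff, Finset.mem_univ, Finset.mem_singleton, true_and] at hx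
      rw [if_neg hx.1.1, if_neg hx.1.2, if_neg hx.2])]
  simp [hij.symm, him.symm, hjm.symm, ← mul_assoc, h]

/-- A cube different from one. -/
theorem exists_cube [Finite K] (h2 : Nat.card K ≠ 2) (h4 : Nat.card K ≠ 4) : ∃ c : K, c ≠ 0 ∧ c ^ 3 ≠ 1 := by
  classical
  haveI := Fintype.ofFinite K
  by_contra hall
  push Not at hall
  have hsub : (Finset.univ.erase (0 : K)) ⊆ (Polynomial.nthRoots 3 (1 : K)).toFinset := fun x hx => by
    rw [Multiset.mem_toFinset, Polynomial.mem_nthRoots (by norm_num)]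
    exact hall x (Finset.mem_erase.1 hx).1
  have h := (Finset.card_le_card hsub).trans ((Multiset.toFinset_card_le _).trans (Polynomial.card_nthRoots 3 1))
  rw [Finset.card_erase_of_mem (Finset.mem_univ _), Finset.card_univ, ← Nat.card_eq_fintype_card] at h
  have hgt : 1 < Nat.card K := Finite.one_lt_card
  have h3 : Nat.card K = 3 := by omega
  have hpow : ∀ x : K, x ^ 3 = x := fun x => by
    have := FiniteField.pow_card x
    rwa [← Nat.card_eq_fintype_card, h3] at this
  have hone : ∀ x : K, x ≠ 0 → x = 1 := fun x hx => by rw [← hpow x]; exact hall x hx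
  have hle : (Finset.univ : Finset K) ⊆ {0, 1} := fun x _ => by
    by_cases hx : x = 0
    · simp [hx]
    · simp [hone x hx]
  have h' := (Finset.card_le_card hle).trans Finset.card_le_two
  rw [Finset.card_univ, ← Nat.card_eq_fintype_card, h3] at h'
  omega

/-- An element whose square is different from one. -/
theorem exists_sq [Finite K] (h4 : 4 ≤ Nat.card K) : ∃ c : K, c ≠ 0 ∧ c ^ 2 ≠ 1 := by
  classical
  haveI := Fintype.ofFinite K
  by_contra hall
  push Not at hall
  have hsub : (Finset.univ.erase (0 : K)) ⊆ {1, -1} := fun x hx => by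
    simpa using sq_eq_one_iff.1 (hall x (Finset.mem_erase.1 hx).1)
  have h := (Finset.card_le_card hsub).trans Finset.card_le_two
  rw [Finset.card_erase_of_mem (Finset.mem_univ _), Finset.card_univ, ← Nat.card_eq_fintype_card] at h
  omega

/-- Data: a central extension of `SL_n(K)` outside the three exceptions. -/
structure Ext (K : Type u) [Field K] (n : ℕ) (Γ : Type u) [Group Γ] where
  /-- the projection -/
  σ : Γ →* Matrix.SpecialLinearGroup (Fin n) K
  surj : Function.Surjective σ
  central : σ.ker ≤ Subgroup.center Γ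
  three : 3 ≤ n
  fin : Finite K
  exc3 : n = 3 → Nat.card K ≠ 2 ∧ Nat.card K ≠ 4
  exc4 : n = 4 → Nat.card K ≠ 2

namespace Ext

variable {Γ : Type u} [Group Γ] (S : Ext K n Γ)

/-- A chosen lift of a root element. -/
noncomputable def L (i j : Fin n) (t : K) : Γ := Function.surjInv S.surj (e i j t)

theorem σ_L (i j : Fin n) (t : K) : S.σ (S.L i j t) = e i j t := Function.surjInv_eq S.surj _

theorem ker_comm {z : Γ} (hz : S.σ z = 1) (g : Γ) : g * z = z * g :=
  Subgroup.mem_center_iff.1 (S.central hz) g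

theorem conj_congr {a a' : Γ} (h : S.σ a = S.σ a') (g : Γ) : a * g * a⁻¹ = a' * g * a'⁻¹ := by
  have hz : S.σ (a'⁻¹ * a) = 1 := by rw [map_mul, map_inv, h, inv_mul_cancel]
  have := S.ker_comm hz g
  calc a * g * a⁻¹ = a' * (a'⁻¹ * a * g) * a⁻¹ := by group
    _ = a' * (g * (a'⁻¹ * a)) * a⁻¹ := by rw [this]
    _ = a' * g * a'⁻¹ := by group

theorem comm_congr {a a' b b' : Γ} (h : S.σ a = S.σ a') (h' : S.σ b = S.σ b') : ⁅a, b⁆ = ⁅a', b'⁆ := by
  have e1 : ⁅a, b⁆ = ⁅a', b⁆ := by rw [commutatorElement_def, commutatorElement_def, S.conj_congr h]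
  have e2 : b * a'⁻¹ * b⁻¹ = b' * a'⁻¹ * b'⁻¹ := S.conj_congr h' _
  rw [e1, commutatorElement_def, commutatorElement_def,
    show a' * b * a'⁻¹ * b⁻¹ = a' * (b * a'⁻¹ * b⁻¹) by group, e2]
  group

theorem conj_comm (g a b : Γ) : g * ⁅a, b⁆ * g⁻¹ = ⁅g * a * g⁻¹, g * b * g⁻¹⁆ := by
  rw [commutatorElement_def, commutatorElement_def]; group

/-- The pairing attached to two commuting root groups. -/
noncomputable def c (i j k l : Fin n) (t u : K) : Γ := ⁅S.L i j t, S.L k l u⁆

variable {i j k l : Fin n}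

theorem c_central (h1 : i ≠ j) (h2 : k ≠ l) (h3 : i ≠ l) (h4 : j ≠ k) (t u : K) :
    S.σ (S.c i j k l t u) = 1 := by
  rw [c, map_commutatorElement, σ_L, σ_L, e_far h1 h2 h3 h4]

theorem c_add_left (h1 : i ≠ j) (h2 : k ≠ l) (h3 : i ≠ l) (h4 : j ≠ k) (t t' u : K) :
    S.c i j k l (t + t') u = S.c i j k l t u * S.c i j k l t' u := by
  have h := S.ker_comm (S.c_central h1 h2 h3 h4 t' u) (S.L i j t)
  have h' := S.ker_comm (S.c_central h1 h2 h3 h4 t u) (S.c i j k l t' u)
  rw [c, S.comm_congr (a' := S.L i j t * S.L i j t') (b' := S.L k l u)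
    (by rw [map_mul, σ_L, σ_L, σ_L, e_add h1]) rfl]
  calc ⁅S.L i j t * S.L i j t', S.L k l u⁆
      = S.L i j t * S.c i j k l t' u * (S.L i j t)⁻¹ * S.c i j k l t u := by
        rw [c, c, commutatorElement_def, commutatorElement_def, commutatorElement_def]; group
    _ = S.c i j k l t' u * S.c i j k l t u := by rw [h, mul_inv_cancel_right]
    _ = _ := h'

theorem c_add_right (h1 : i ≠ j) (h2 : k ≠ l) (h3 : i ≠ l) (h4 : j ≠ k) (t u u' : K) :
    S.c i j k l t (u + u') = S.c i j k l t u * S.c i j k l t u' := by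
  have h := S.ker_comm (S.c_central h1 h2 h3 h4 t u') (S.L k l u)
  rw [c, S.comm_congr (a' := S.L i j t) (b' := S.L k l u * S.L k l u')
    rfl (by rw [map_mul, σ_L, σ_L, σ_L, e_add h2])]
  calc ⁅S.L i j t, S.L k l u * S.L k l u'⁆
      = S.c i j k l t u * (S.L k l u * S.c i j k l t u' * (S.L k l u)⁻¹) := by
        rw [c, c, commutatorElement_def, commutatorElement_def, commutatorElement_def]; group
    _ = _ := by rw [h, mul_inv_cancel_right]

theorem c_zero_left (h1 : i ≠ j) (h2 : k ≠ l) (h3 : i ≠ l) (h4 : j ≠ k) (u : K) : S.c i j k l 0 u = 1 := by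
  have := S.c_add_left h1 h2 h3 h4 0 0 u
  rwa [add_zero, left_eq_mul] at this

theorem c_zero_right (h1 : i ≠ j) (h2 : k ≠ l) (h3 : i ≠ l) (h4 : j ≠ k) (t : K) : S.c i j k l t 0 = 1 := by
  have := S.c_add_right h1 h2 h3 h4 t 0 0
  rwa [add_zero, left_eq_mul] at this

theorem c_torus (h1 : i ≠ j) (h2 : k ≠ l) (h3 : i ≠ l) (h4 : j ≠ k) (d : Fin n → K) (hd : ∏ x, d x = 1) (t u : K) :
    S.c i j k l (d i / d j * t) (d k / d l * u) = S.c i j k l t u := by
  obtain ⟨H, hH⟩ := S.surj (dg d hd)
  have e1 : H * S.c i j k l t u * H⁻¹ = S.c i j k l t u := by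
    rw [S.ker_comm (S.c_central h1 h2 h3 h4 t u), mul_inv_cancel_right]
  rw [← e1, c, c, conj_comm]
  exact S.comm_congr (by rw [map_mul, map_mul, map_inv, σ_L, σ_L, hH, dg_conj d hd h1])
    (by rw [map_mul, map_mul, map_inv, σ_L, σ_L, hH, dg_conj d hd h2])

theorem c_of_scale_right (h1 : i ≠ j) (h2 : k ≠ l) (h3 : i ≠ l) (h4 : j ≠ k) {β : K} (hβ : β ≠ 1)
    (h : ∀ t u, S.c i j k l t (β * u) = S.c i j k l t u) (t u : K) : S.c i j k l t u = 1 := by
  have h' := h t (u / (β - 1))
  rw [show β * (u / (β - 1)) = u + u / (β - 1) by field_simp [sub_ne_zero.2 hβ]; ring,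
    S.c_add_right h1 h2 h3 h4] at h'
  exact mul_eq_right.1 h'

theorem c_of_third (h1 : i ≠ j) (h3 : i ≠ l) (h4 : j ≠ k) (h2 : k ≠ l) {p : Fin n}
    (hpi : p ≠ i) (hpj : p ≠ j) (hpk : p ≠ k) (hpl : p ≠ l) (t u : K) : S.c i j k l t u = 1 := by
  set a := S.L i p t
  set b := S.L p j 1
  set Y := S.L k l u
  have hab : S.σ ⁅a, b⁆ = e i j t := by
    rw [map_commutatorElement, σ_L, σ_L, e_near hpi.symm hpj h1, mul_one]
  have hY : Y * ⁅a, b⁆ * Y⁻¹ = ⁅a, b⁆ := by
    rw [conj_comm]
    refine S.comm_congr ?_ ?_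
    · rw [map_mul, map_mul, map_inv, σ_L, σ_L]
      have := e_far (K := K) h2 hpi.symm hpk.symm h3.symm u t
      rw [commutatorElement_eq_one_iff_mul_comm] at this
      rw [this, mul_inv_cancel_right]
    · rw [map_mul, map_mul, map_inv, σ_L, σ_L]
      have := e_far (K := K) h2 hpj h4.symm hpl.symm u 1
      rw [commutatorElement_eq_one_iff_mul_comm] at this
      rw [this, mul_inv_cancel_right]
  rw [c, S.comm_congr (a' := ⁅a, b⁆) (b' := Y) (by rw [σ_L, hab]) rfl, commutatorElement_eq_one_iff_mul_comm]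
  exact (mul_inv_eq_iff_eq_mul.1 hY).symm

end Ext

/-- The permutation matrix exchanging two pairs. -/
theorem exists_swap {i j k l : Fin n} (h1 : i ≠ j) (h2 : k ≠ l) (hik : i ≠ k) (hil : i ≠ l) (hjk : j ≠ k)
    (hjl : j ≠ l) : ∃ P : SLn, (∀ t : K, P * e i j t * P⁻¹ = e k l t) ∧ ∀ t : K, P * e k l t * P⁻¹ = e i j t := by
  classical
  let π : Equiv.Perm (Fin n) := Equiv.swap i k * Equiv.swap j l
  have hsign : Equiv.Perm.sign π = 1 := by
    rw [map_mul, Equiv.Perm.sign_swap hik, Equiv.Perm.sign_swap hjl]; rfl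
  let P : SLn := ⟨Equiv.Perm.permMatrix K π, by rw [Matrix.det_permutation, hsign]; simp⟩
  have key : ∀ a b : Fin n, a ≠ b → ∀ t : K, P * e (π a) (π b) t * P⁻¹ = e a b t := by
    intro a b hab t
    have hab' : π a ≠ π b := fun e0 => hab (π.injective e0)
    rw [mul_inv_eq_iff_eq_mul]
    apply Subtype.ext
    show π.toPEquiv.toMatrix * (e (π a) (π b) t : SLn).1 = (e a b t : SLn).1 * π.toPEquiv.toMatrix
    rw [e_coe hab, e_coe hab']
    rw [PEquiv.toMatrix_toPEquiv_mul, PEquiv.mul_toMatrix_toPEquiv]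
    ext x y
    simp only [transvection, submatrix_apply, id_eq, Matrix.add_apply, Matrix.one_apply, Matrix.single_apply,
      Equiv.apply_eq_iff_eq]
    congr 1
    · exact if_congr (by rw [Equiv.eq_symm_apply]) rfl rfl
    · exact if_congr (by rw [Equiv.eq_symm_apply]) rfl rfl
  have pi' : π k = i := by
    show Equiv.swap i k (Equiv.swap j l k) = i
    rw [Equiv.swap_apply_of_ne_of_ne hjk.symm h2, Equiv.swap_apply_right]
  have pj : π l = j := by
    show Equiv.swap i k (Equiv.swap j l l) = j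
    rw [Equiv.swap_apply_right, Equiv.swap_apply_of_ne_of_ne h1.symm hjk]
  have pk : π i = k := by
    show Equiv.swap i k (Equiv.swap j l i) = k
    rw [Equiv.swap_apply_of_ne_of_ne h1 hil, Equiv.swap_apply_left]
  have pl : π j = l := by
    show Equiv.swap i k (Equiv.swap j l j) = l
    rw [Equiv.swap_apply_left, Equiv.swap_apply_of_ne_of_ne hil.symm h2.symm]
  refine ⟨P, fun t => ?_, fun t => ?_⟩
  · have := key k l h2 t
    rwa [pi', pj] at this
  · have := key i j h1 t
    rwa [pk, pl] at this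

namespace Ext

variable {Γ : Type u} [Group Γ] (S : Ext K n Γ) {i j k l : Fin n}

include S in
theorem exists_avoid (i j : Fin n) : ∃ p : Fin n, p ≠ i ∧ p ≠ j := by
  obtain ⟨p, -, hp⟩ := Finset.exists_mem_notMem_of_card_lt_card (s := {i, j}) (t := Finset.univ) (by
    rw [Finset.card_univ, Fintype.card_fin]; exact lt_of_le_of_lt Finset.card_le_two S.three)
  exact ⟨p, by simpa using hp⟩

/-- Commuting root groups have commuting lifts. -/
theorem c_eq_one (h1 : i ≠ j) (h2 : k ≠ l) (h3 : i ≠ l) (h4 : j ≠ k) (t u : K) : S.c i j k l t u = 1 := by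
  haveI := S.fin
  by_cases hp : ∃ p : Fin n, p ≠ i ∧ p ≠ j ∧ p ≠ k ∧ p ≠ l
  · obtain ⟨p, a, b, c, d⟩ := hp
    exact S.c_of_third h1 h3 h4 h2 a b c d t u
  push Not at hp
  by_cases hik : i = k
  · subst hik
    by_cases hjl : j = l
    · subst hjl
      obtain ⟨p, a, b⟩ := S.exists_avoid i j
      exact absurd (hp p a b a) b
    -- one row, three indices
    have hn : n = 3 := by
      refine le_antisymm ?_ S.three
      have : (Finset.univ : Finset (Fin n)) ⊆ {i, j, l} := fun x _ => by
        by_cases a : x = i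
        · simp [a]
        by_cases b : x = j
        · simp [b]
        simp [hp x a b a]
      have := (Finset.card_le_card this).trans Finset.card_le_three
      simpa using this
    obtain ⟨l₀, hl0, hl3⟩ := exists_cube (S.exc3 hn).1 (S.exc3 hn).2
    obtain ⟨d, hd, di, dj, dl, -⟩ := exists_dg3 (K := K) h1 h3 hjl
      (show l₀ * l₀ * (l₀ ^ 2)⁻¹ = 1 by rw [← pow_two, mul_inv_cancel₀ (pow_ne_zero 2 hl0)])
    refine S.c_of_scale_right h1 h2 h3 h4 (β := l₀ ^ 3) hl3 (fun t u => ?_) t u
    have := S.c_torus h1 h2 h3 h4 d hd t u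
    rwa [di, dj, dl, div_self hl0, one_mul, div_inv_eq_mul, ← pow_succ'] at this
  by_cases hjl : j = l
  · subst hjl
    have hn : n = 3 := by
      refine le_antisymm ?_ S.three
      have : (Finset.univ : Finset (Fin n)) ⊆ {i, j, k} := fun x _ => by
        by_cases a : x = i
        · simp [a]
        by_cases b : x = j
        · simp [b]
        by_cases c : x = k
        · simp [c]
        exact absurd (hp x a b c) b
      have := (Finset.card_le_card this).trans Finset.card_le_three
      simpa using this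
    obtain ⟨l₀, hl0, hl3⟩ := exists_cube (S.exc3 hn).1 (S.exc3 hn).2
    obtain ⟨d, hd, di, dj, dk, -⟩ := exists_dg3 (K := K) h1 hik h4
      (show l₀⁻¹ * l₀⁻¹ * l₀ ^ 2 = 1 by rw [← pow_two, inv_pow, inv_mul_cancel₀ (pow_ne_zero 2 hl0)])
    refine S.c_of_scale_right h1 h2 h3 h4 (β := l₀ ^ 3) hl3 (fun t u => ?_) t u
    have := S.c_torus h1 h2 h3 h4 d hd t u
    rwa [di, dj, dk, div_self (inv_ne_zero hl0), one_mul, div_inv_eq_mul, ← pow_succ] at this
  -- four indices
  have hn : n = 4 := by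
    have hsub : (Finset.univ : Finset (Fin n)) = {i, j, k, l} := by
      refine (Finset.eq_univ_iff_forall.2 fun x => ?_).symm
      by_cases a : x = i
      · simp [a]
      by_cases b : x = j
      · simp [b]
      by_cases c : x = k
      · simp [c]
      simp [hp x a b c]
    have := congrArg Finset.card hsub
    rw [Finset.card_univ, Fintype.card_fin] at this
    rw [this]
    simp [h1, h2, h3, h4, hik, hjl]
  have h2' := S.exc4 hn
  have hgt : 1 < Nat.card K := Finite.one_lt_card
  by_cases h4' : 4 ≤ Nat.card K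
  · obtain ⟨a, ha, ha2⟩ := exists_sq h4'
    obtain ⟨d, hd, dk, dl, di, hrest⟩ := exists_dg3 (K := K) h2 (Ne.symm hik) (Ne.symm h3)
      (show a * a⁻¹ * 1 = 1 by rw [mul_inv_cancel₀ ha, one_mul])
    refine S.c_of_scale_right h1 h2 h3 h4 (β := a ^ 2) ha2 (fun t u => ?_) t u
    have := S.c_torus h1 h2 h3 h4 d hd t u
    rwa [di, hrest j h4 hjl (Ne.symm h1), div_one, one_mul, dk, dl, div_inv_eq_mul, ← pow_two] at this
  · have h3' : Nat.card K = 3 := by omega
    haveI := Fintype.ofFinite K
    rw [Nat.card_eq_fintype_card] at h3'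
    have h30 : (3 : K) = 0 := by
      have := Nat.cast_card_eq_zero K
      rw [h3'] at this
      simpa using this
    have hcube : S.c i j k l 1 1 ^ 3 = 1 := by
      have e3 : S.c i j k l 1 1 ^ 3 = S.c i j k l (1 + 1 + 1) 1 := by
        rw [S.c_add_left h1 h2 h3 h4, S.c_add_left h1 h2 h3 h4]; rw [pow_succ, pow_two]
      rw [e3, show (1 : K) + 1 + 1 = 0 by linear_combination h30, S.c_zero_left h1 h2 h3 h4]
    have hsq : S.c i j k l 1 1 ^ 2 = 1 := by
      obtain ⟨P, hP1, hP2⟩ := exists_swap (K := K) h1 h2 hik h3 h4 hjl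
      obtain ⟨P', hP'⟩ := S.surj P
      have e1 : P' * S.c i j k l 1 1 * P'⁻¹ = S.c i j k l 1 1 := by
        rw [S.ker_comm (S.c_central h1 h2 h3 h4 1 1), mul_inv_cancel_right]
      have e2 : P' * S.c i j k l 1 1 * P'⁻¹ = (S.c i j k l 1 1)⁻¹ := by
        rw [c, conj_comm, commutatorElement_inv]
        exact S.comm_congr (by rw [map_mul, map_mul, map_inv, σ_L, σ_L, hP', hP1])
          (by rw [map_mul, map_mul, map_inv, σ_L, σ_L, hP', hP2])
      rw [e1] at e2
      rw [pow_two]
      exact mul_eq_one_iff_eq_inv.2 e2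
    have h11 : S.c i j k l 1 1 = 1 := by
      rw [pow_succ, hsq, one_mul] at hcube; exact hcube
    have hall : ∀ x : K, x = 0 ∨ x = 1 ∨ x = -1 := fun x => by
      have hx : x ^ 3 = x := by rw [← h3']; exact FiniteField.pow_card x
      have : x * ((x - 1) * (x + 1)) = 0 := by linear_combination hx
      rcases mul_eq_zero.1 this with h | h
      · exact Or.inl h
      rcases mul_eq_zero.1 h with h | h
      · exact Or.inr (Or.inl (sub_eq_zero.1 h))
      · exact Or.inr (Or.inr (eq_neg_of_add_eq_zero_left h))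
    have hneg1 : (-1 : K) = 1 + 1 := by linear_combination -h30
    rcases hall t with rfl | rfl | rfl <;> rcases hall u with rfl | rfl | rfl <;>
      simp only [hneg1, S.c_zero_left h1 h2 h3 h4, S.c_zero_right h1 h2 h3 h4, S.c_add_left h1 h2 h3 h4,
        S.c_add_right h1 h2 h3 h4, h11, mul_one]

/-- Two elements over commuting root elements commute. -/
theorem comm_far (h1 : i ≠ j) (h2 : k ≠ l) (h3 : i ≠ l) (h4 : j ≠ k) {t u : K} {g g' : Γ}
    (hg : S.σ g = e i j t) (hg' : S.σ g' = e k l u) : g * g' = g' * g := by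
  rw [← commutatorElement_eq_one_iff_mul_comm, S.comm_congr (a' := S.L i j t) (b' := S.L k l u)
    (by rw [hg, σ_L]) (by rw [hg', σ_L])]
  exact S.c_eq_one h1 h2 h3 h4 t u

/-- The commutator lift of a root element through the index `p`. -/
noncomputable def f (i j p : Fin n) (t s : K) : Γ := ⁅S.L i p t, S.L p j s⁆

variable {p : Fin n}

theorem σ_f (hij : i ≠ j) (hpi : p ≠ i) (hpj : p ≠ j) (t s : K) : S.σ (S.f i j p t s) = e i j (t * s) := by
  rw [f, map_commutatorElement, σ_L, σ_L, e_near hpi.symm hpj hij]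

theorem f_add_left (hij : i ≠ j) (hpi : p ≠ i) (hpj : p ≠ j) (t t' s : K) :
    S.f i j p (t + t') s = S.f i j p t s * S.f i j p t' s := by
  rw [f, S.comm_congr (a' := S.L i p t * S.L i p t') (b' := S.L p j s)
    (by rw [map_mul, σ_L, σ_L, σ_L, e_add hpi.symm]) rfl]
  have h := S.comm_far hpi.symm hij hij hpi (S.σ_L i p t) (S.σ_f hij hpi hpj t' s)
  have h' := S.comm_far hij hij hij hij.symm (S.σ_f hij hpi hpj t' s) (S.σ_f hij hpi hpj t s)
  calc ⁅S.L i p t * S.L i p t', S.L p j s⁆
      = S.L i p t * S.f i j p t' s * (S.L i p t)⁻¹ * S.f i j p t s := by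
        rw [f, f, commutatorElement_def, commutatorElement_def, commutatorElement_def]; group
    _ = S.f i j p t' s * S.f i j p t s := by rw [h, mul_inv_cancel_right]
    _ = _ := h'

theorem f_add_right (hij : i ≠ j) (hpi : p ≠ i) (hpj : p ≠ j) (t s s' : K) :
    S.f i j p t (s + s') = S.f i j p t s * S.f i j p t s' := by
  rw [f, S.comm_congr (a' := S.L i p t) (b' := S.L p j s * S.L p j s')
    rfl (by rw [map_mul, σ_L, σ_L, σ_L, e_add hpj])]
  have h := S.comm_far hpj hij hpj hij.symm (S.σ_L p j s) (S.σ_f hij hpi hpj t s')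
  calc ⁅S.L i p t, S.L p j s * S.L p j s'⁆
      = S.f i j p t s * (S.L p j s * S.f i j p t s' * (S.L p j s)⁻¹) := by
        rw [f, f, commutatorElement_def, commutatorElement_def, commutatorElement_def]; group
    _ = _ := by rw [h, mul_inv_cancel_right]

theorem f_step (hij : i ≠ j) (hpi : p ≠ i) (hpj : p ≠ j) {q : Fin n} (hqi : q ≠ i) (hqj : q ≠ j) (hqp : q ≠ p)
    (t s : K) : S.f i j p t s = S.f i j q (t * s) 1 := by
  set a := S.L i p t with hadef
  set b := S.L p q s with hbdef
  set c := S.L q j (1 : K) with hcdef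
  set A := ⁅a, b⁆ with hA
  have hσA : S.σ A = e i q (t * s) := S.σ_f hqi.symm hpi hqp.symm t s
  have hσbc : S.σ ⁅b, c⁆ = e p j s := by
    have := S.σ_f hpj hqp hqj s 1
    rwa [mul_one] at this
  have hac : a * c = c * a := S.comm_far hpi.symm hqj hij hqp.symm (S.σ_L i p t) (S.σ_L q j 1)
  have hAbc : A * ⁅b, c⁆ = ⁅b, c⁆ * A := S.comm_far hqi.symm hpj hij hqp hσA hσbc
  have hσAc : S.σ ⁅A, c⁆ = e i j (t * s) := by
    rw [map_commutatorElement, hσA, σ_L, e_near hqi.symm hqj hij, mul_one]
  have hpjij : ⁅b, c⁆ * ⁅A, c⁆ = ⁅A, c⁆ * ⁅b, c⁆ :=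
    S.comm_far hpj hij hpj hij.symm hσbc hσAc
  have hmain : a * ⁅b, c⁆ * a⁻¹ = ⁅b, c⁆ * ⁅A, c⁆ := by
    have e1 : a * b * a⁻¹ = A * b := by rw [hA, commutatorElement_def]; group
    have e2 : a * c * a⁻¹ = c := by rw [hac, mul_inv_cancel_right]
    rw [conj_comm, e1, e2, show ⁅A * b, c⁆ = A * ⁅b, c⁆ * A⁻¹ * ⁅A, c⁆ by
      rw [commutatorElement_def, commutatorElement_def, commutatorElement_def]; group, hAbc, mul_inv_cancel_right]
  calc S.f i j p t s = ⁅a, ⁅b, c⁆⁆ := S.comm_congr rfl (by rw [σ_L, hσbc])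
    _ = a * ⁅b, c⁆ * a⁻¹ * ⁅b, c⁆⁻¹ := commutatorElement_def _ _
    _ = ⁅A, c⁆ := by rw [hmain, hpjij, mul_inv_cancel_right]
    _ = S.f i j q (t * s) 1 := S.comm_congr (by rw [hσA, σ_L]) rfl

theorem f_assoc (hij : i ≠ j) (hpi : p ≠ i) (hpj : p ≠ j) (t s : K) :
    S.f i j p t s = S.f i j p (t * s) 1 := by
  haveI := S.fin
  by_cases hq : ∃ q : Fin n, q ≠ i ∧ q ≠ j ∧ q ≠ p
  · obtain ⟨q, a, b, c⟩ := hq
    rw [S.f_step hij hpi hpj a b c t s, S.f_step hij hpi hpj a b c (t * s) 1, mul_one]
  push Not at hq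
  have hn : n = 3 := by
    refine le_antisymm ?_ S.three
    have : (Finset.univ : Finset (Fin n)) ⊆ {i, j, p} := fun x _ => by
      by_cases a : x = i
      · simp [a]
      by_cases b : x = j
      · simp [b]
      simp [hq x a b]
    have := (Finset.card_le_card this).trans Finset.card_le_three
    simpa using this
  obtain ⟨hK2, hK4⟩ := S.exc3 hn
  -- the scalars which move across the pairing
  have hzl : ∀ s, S.f i j p 0 s = 1 := fun s => by
    have := S.f_add_left hij hpi hpj 0 0 s
    rwa [add_zero, left_eq_mul] at this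
  have hzr : ∀ t, S.f i j p t 0 = 1 := fun t => by
    have := S.f_add_right hij hpi hpj t 0 0
    rwa [add_zero, left_eq_mul] at this
  let M : Subring K :=
    { carrier := {a | ∀ t s, S.f i j p (a * t) s = S.f i j p t (a * s)}
      one_mem' := fun t s => by rw [one_mul, one_mul]
      zero_mem' := fun t s => by rw [zero_mul, zero_mul, hzl, hzr]
      mul_mem' := fun {a b} ha hb t s => by
        rw [mul_assoc, ha, hb, ← mul_assoc, mul_comm b a]
      add_mem' := fun {a b} ha hb t s => by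
        rw [add_mul, S.f_add_left hij hpi hpj, ha, hb, ← S.f_add_right hij hpi hpj, add_mul]
      neg_mem' := fun {a} ha t s => by
        have e1 : S.f i j p (-a * t) s * S.f i j p (a * t) s = 1 := by
          rw [← S.f_add_left hij hpi hpj, neg_mul, neg_add_cancel, hzl]
        have e2 : S.f i j p t (-a * s) * S.f i j p t (a * s) = 1 := by
          rw [← S.f_add_right hij hpi hpj, neg_mul, neg_add_cancel, hzr]
        rw [← ha] at e2
        exact mul_right_cancel (e1.trans e2.symm) }
  suffices hM : M = ⊤ by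
    have hs : s ∈ M := by rw [hM]; trivial
    have := hs t 1
    rw [mul_one] at this
    rw [mul_comm t s, this]
  haveI := Fintype.ofFinite K
  rw [Nat.card_eq_fintype_card] at hK2 hK4
  have hgt : 1 < Fintype.card K := Fintype.one_lt_card
  by_cases h3 : Fintype.card K = 3
  · refine eq_top_iff.2 fun x _ => ?_
    have hx : x ^ 3 = x := by rw [← h3]; exact FiniteField.pow_card x
    have : x * ((x - 1) * (x + 1)) = 0 := by linear_combination hx
    rcases mul_eq_zero.1 this with h | h
    · rw [h]; exact M.zero_mem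
    rcases mul_eq_zero.1 h with h | h
    · rw [sub_eq_zero.1 h]; exact M.one_mem
    · rw [eq_neg_of_add_eq_zero_left h]; exact M.neg_mem M.one_mem
  obtain ⟨ν, hν0, hν2⟩ := exists_sq (K := K) (by rw [Nat.card_eq_fintype_card]; omega)
  have hcubes : ∀ l : K, l ≠ 0 → l ^ 3 ∈ M := by
    intro l hl t s
    obtain ⟨d, hd, di, dp, dj, -⟩ := exists_dg3 (K := K) hpi.symm hij hpj
      (show l * (l ^ 2)⁻¹ * l = 1 by field_simp)
    obtain ⟨d', hd', di', dj', -, -⟩ := exists_dg3 (K := K) hij hpi.symm hpj.symm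
      (show ν * ν⁻¹ * 1 = 1 by rw [mul_inv_cancel₀ hν0, one_mul])
    obtain ⟨H, hH⟩ := S.surj (dg d hd)
    obtain ⟨H', hH'⟩ := S.surj (dg d' hd')
    have hfix : ∀ x (g : Γ), S.σ g = e i j x → H * g * H⁻¹ = g := by
      intro x g hg
      set y := x / (ν ^ 2 - 1)
      have hσ : S.σ ⁅H', S.L i j y⁆ = e i j x := by
        rw [commutatorElement_def, map_mul, map_mul, map_mul, map_inv, map_inv, σ_L, hH', dg_conj d' hd' hij, di', dj',
          mul_inv_eq_iff_eq_mul, ← e_add hij, div_inv_eq_mul, ← pow_two]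
        congr 1
        rw [show x = (ν ^ 2 - 1) * y by rw [mul_div_cancel₀ _ (sub_ne_zero.2 hν2)]]; ring
      have hz := S.ker_comm (z := ⁅H', S.L i j y⁆⁻¹ * g) (by rw [map_mul, map_inv, hσ, hg, inv_mul_cancel]) H
      have hHc : H * ⁅H', S.L i j y⁆ * H⁻¹ = ⁅H', S.L i j y⁆ := by
        rw [conj_comm]
        refine S.comm_congr ?_ ?_
        · rw [map_mul, map_mul, map_inv, hH, hH']
          rw [mul_inv_eq_iff_eq_mul]
          apply Subtype.ext
          show diagonal d * diagonal d' = diagonal d' * diagonal d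
          rw [diagonal_mul_diagonal, diagonal_mul_diagonal]; simp only [mul_comm]
        · rw [map_mul, map_mul, map_inv, σ_L, hH, dg_conj d hd hij, di, dj, div_self hl, one_mul]
      calc H * g * H⁻¹ = (H * ⁅H', S.L i j y⁆ * H⁻¹) * (H * (⁅H', S.L i j y⁆⁻¹ * g) * H⁻¹) := by group
        _ = g := by rw [hHc, hz]; group
    have key : ∀ t s, S.f i j p (l ^ 3 * t) ((l ^ 3)⁻¹ * s) = S.f i j p t s := by
      intro t s
      rw [← hfix _ _ (S.σ_f hij hpi hpj t s), f, f, conj_comm]
      refine S.comm_congr ?_ ?_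
      · rw [map_mul, map_mul, map_inv, σ_L, σ_L, hH, dg_conj d hd hpi.symm, di, dp, div_inv_eq_mul, ← pow_succ']
      · rw [map_mul, map_mul, map_inv, σ_L, σ_L, hH, dg_conj d hd hpj, dp, dj]
        congr 1
        field_simp
    rw [← key t (l ^ 3 * s), inv_mul_cancel_left₀ (pow_ne_zero 3 hl)]
  -- the cubes lie in no proper subfield
  classical
  let M₀ : Finset K := Finset.univ.filter (· ∈ M)
  have hbound : Fintype.card K - 1 ≤ 3 * (M₀.card - 1) := by
    have h1 : ∀ a ∈ (Finset.univ.erase (0 : K)).image (· ^ 3),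
        ((Finset.univ.erase (0 : K)).filter (fun x => x ^ 3 = a)).card ≤ 3 := fun a _ => by
      refine (Finset.card_le_card fun x hx => ?_).trans
        ((Multiset.toFinset_card_le _).trans (Polynomial.card_nthRoots 3 a))
      rw [Multiset.mem_toFinset, Polynomial.mem_nthRoots (by norm_num)]
      exact (Finset.mem_filter.1 hx).2
    have h2 := Finset.card_le_mul_card_image (f := fun x : K => x ^ 3) (Finset.univ.erase (0 : K)) 3 h1
    have h3 : (Finset.univ.erase (0 : K)).image (fun x => x ^ 3) ⊆ M₀.erase 0 := by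
      intro a ha
      obtain ⟨x, hx, rfl⟩ := Finset.mem_image.1 ha
      have hx0 := (Finset.mem_erase.1 hx).1
      exact Finset.mem_erase.2 ⟨pow_ne_zero 3 hx0, Finset.mem_filter.2 ⟨Finset.mem_univ _, hcubes x hx0⟩⟩
    have h4 : (M₀.erase 0).card = M₀.card - 1 :=
      Finset.card_erase_of_mem (Finset.mem_filter.2 ⟨Finset.mem_univ _, M.zero_mem⟩)
    rw [Finset.card_erase_of_mem (Finset.mem_univ _), Finset.card_univ] at h2
    exact h2.trans (Nat.mul_le_mul_left 3 (h4 ▸ Finset.card_le_card h3))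
  by_contra hM
  have hMfield : IsField M := Finite.isField_of_domain M
  letI := hMfield.toField
  have hMc : M₀.card = Nat.card M := by
    rw [Nat.card_eq_fintype_card, Fintype.card_subtype]
  have hpow := Module.natCard_eq_pow_finrank (K := M) (V := K)
  have hlt : Nat.card M < Nat.card K := by
    obtain ⟨x, hx⟩ : ∃ x, x ∉ M := by
      by_contra hc; push Not at hc; exact hM (eq_top_iff.2 fun x _ => hc x)
    rw [Nat.card_eq_fintype_card, Nat.card_eq_fintype_card]
    exact Fintype.card_lt_of_injective_of_notMem _ Subtype.val_injective (b := x) (by simpa using hx)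
  have hd : 2 ≤ Module.finrank M K := by
    by_contra hc
    interval_cases hf : Module.finrank M K <;> simp_all
  have hN : 2 ≤ Nat.card M := Finite.one_lt_card
  have hle : Nat.card M ^ 2 ≤ Nat.card K := by
    rw [hpow]; exact Nat.pow_le_pow_right (by omega) hd
  rw [← hMc] at hle hN hlt hpow
  rw [Nat.card_eq_fintype_card] at hle hlt
  have hN2 : M₀.card = 2 := by
    have h1 : M₀.card * M₀.card ≤ Fintype.card K := by rw [← pow_two]; exact hle
    generalize M₀.card = N at hbound h1 hN
    generalize Fintype.card K = Q at hbound h1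
    by_contra hne
    have hN3 : 3 ≤ N := by omega
    have := Nat.mul_le_mul_right N hN3
    omega
  rw [hN2] at hbound hle
  omega

theorem f_eq_f (hij : i ≠ j) {p q : Fin n} (hpi : p ≠ i) (hpj : p ≠ j) (hqi : q ≠ i) (hqj : q ≠ j) (t : K) :
    S.f i j p t 1 = S.f i j q t 1 := by
  rcases eq_or_ne q p with rfl | hqp
  · rfl
  · rw [S.f_step hij hpi hpj hqi hqj hqp, mul_one]

/-- The canonical lift of a root element. -/
noncomputable def X (i j : Fin n) (t : K) : Γ := S.f i j (S.exists_avoid i j).choose t 1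

theorem X_eq (hij : i ≠ j) {p : Fin n} (hpi : p ≠ i) (hpj : p ≠ j) (t s : K) :
    S.f i j p t s = S.X i j (t * s) := by
  rw [S.f_assoc hij hpi hpj]
  exact S.f_eq_f hij hpi hpj (S.exists_avoid i j).choose_spec.1 (S.exists_avoid i j).choose_spec.2 _

theorem σ_X (hij : i ≠ j) (t : K) : S.σ (S.X i j t) = e i j t := by
  rw [X, S.σ_f hij (S.exists_avoid i j).choose_spec.1 (S.exists_avoid i j).choose_spec.2, mul_one]

theorem X_add (hij : i ≠ j) (t u : K) : S.X i j t * S.X i j u = S.X i j (t + u) :=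
  (S.f_add_left hij (S.exists_avoid i j).choose_spec.1 (S.exists_avoid i j).choose_spec.2 t u 1).symm

/-- The extension splits. -/
theorem exists_section : ∃ s : SLn →* Γ, ∀ g, S.σ (s g) = g := by
  let E : Subgroup Γ := Subgroup.closure {g | ∃ i j : Fin n, i ≠ j ∧ ∃ t : K, g = S.X i j t}
  have hmem : ∀ i j : Fin n, i ≠ j → ∀ t : K, S.X i j t ∈ E := fun i j h t =>
    Subgroup.subset_closure ⟨i, j, h, t, rfl⟩
  let R : CfsgLib.StPres.StN K n E :=
    { x := fun i j t => if h : i ≠ j then ⟨S.X i j t, hmem i j h t⟩ else 1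
      add := fun i j h t u => by
        rw [dif_pos h, dif_pos h, dif_pos h]
        exact Subtype.ext (S.X_add h t u)
      far := fun i j k l h1 h2 h3 h4 t u => by
        rw [dif_pos h1, dif_pos h2]
        refine Subtype.ext ?_
        show S.X i j t * S.X k l u * (S.X i j t)⁻¹ * (S.X k l u)⁻¹ = 1
        rw [S.comm_far h1 h2 h3 h4 (S.σ_X h1 t) (S.σ_X h2 u), mul_inv_cancel_right, mul_inv_cancel]
      near := fun i j l h1 h2 h3 t u => by
        rw [dif_pos h1, dif_pos h2, dif_pos h3]
        refine Subtype.ext ?_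
        show ⁅S.X i j t, S.X j l u⁆ = S.X i l (t * u)
        rw [← S.X_eq h3 h1.symm h2 t u]
        exact S.comm_congr (by rw [S.σ_X h1, σ_L]) (by rw [S.σ_X h2, σ_L])
      gen := by
        rw [eq_top_iff]
        rintro ⟨g, hg⟩ -
        induction hg using Subgroup.closure_induction with
        | mem x hx =>
          obtain ⟨i, j, h, t, rfl⟩ := hx
          exact Subgroup.subset_closure ⟨i, j, h, t, by rw [dif_pos h]⟩
        | one => exact one_mem _
        | mul x y hx hy ihx ihy => exact mul_mem ihx ihy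
        | inv x hx ih => exact inv_mem ih
      π := S.σ.comp E.subtype
      π_x := fun i j h t => by
        rw [dif_pos h]
        show (S.σ (S.X i j t)).1 = _
        rw [S.σ_X h, e_coe h] }
  obtain ⟨m, rfl⟩ : ∃ m, n = m + 3 := ⟨n - 3, by have := S.three; omega⟩
  haveI := S.fin
  let φ := MulEquiv.ofBijective R.π R.π_bijective
  exact ⟨E.subtype.comp φ.symm.toMonoidHom, fun g => φ.apply_symm_apply g⟩

end Ext

end CfsgLib.SLMult
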